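import Cfsg.Agent.H79.HT.Arith
import Cfsg.Agent.H912.BdOrth
import Cfsg.Agent.H912.MultChar
import Cfsg.Agent.H915.LD
import Cfsg.Agent.S0294
import Cfsg.Agent.S0818

/-!
# S3540, row B6: `PΩ⁻_{2m}(s)` (helper79)
-/

set_option autoImplicit false
set_option linter.unusedSectionVars false
set_option linter.unusedVariables false

universe u

namespace Cfsg.Agent.H79.HT

open Cfsg Cfsg.Agent.H915.LD Cfsg.Agent.H337.HT Cfsg.Agent.H912.Bd

theorem prime_dvd {p q : ℕ} (hp : p.Prime) (h : ¬ p ∣ q) (hq : 0 < q) : p ∣ q ^ (p - 1) - 1 := by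
  have h1 : q ^ (p - 1) ≡ 1 [MOD p] := by
    have := Nat.ModEq.pow_totient (x := q) (n := p) ((Nat.Prime.coprime_iff_not_dvd hp).2 h).symm
    rwa [Nat.totient_prime hp] at this
  exact (Nat.modEq_iff_dvd' (Nat.one_le_pow _ _ hq)).1 h1.symm

section

variable {K : Type} [Field K] [Fintype K] {q m : ℕ} {a b : K}

theorem card_le (hF : Fintype.card K = q) (hq : 2 ≤ q) (hm : 4 ≤ m)
    (hab : ∀ z₁ z₂ : K, z₁ ^ 2 + a * z₁ * z₂ + b * z₂ ^ 2 = 0 → z₁ = 0 ∧ z₂ = 0) :
    Nat.card (POmega K (quadFormMinus (m - 1) K a b)) ≤ q ^ (2 * m ^ 2 - m) := by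
  have h := Cfsg.Agent.S0294.result hF m hm a b hab
  have h1 : Nat.card (POmega K (quadFormMinus (m - 1) K a b)) ≤
      q ^ (m * (m - 1)) * (q ^ m + 1) * ∏ i ∈ Finset.range (m - 1), (q ^ (2 * (i + 1)) - 1) := by
    rw [← h]
    exact Nat.le_mul_of_pos_left _ (Nat.gcd_pos_of_pos_left _ (by norm_num))
  refine h1.trans ?_
  obtain ⟨k, rfl⟩ : ∃ k, m = k + 2 := ⟨m - 2, by omega⟩
  have e1 : k + 2 - 1 = k + 1 := rfl
  rw [e1, Finset.prod_range_succ']
  have h2 : ∏ i ∈ Finset.range k, (q ^ (2 * (i + 1 + 1)) - 1) ≤ ∏ i ∈ Finset.range k, q ^ (2 * (i + 2)) :=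
    Finset.prod_le_prod' fun i _ => Nat.sub_le _ _
  have h3 : (∏ i ∈ Finset.range k, q ^ (2 * (i + 2))) = q ^ (k * (k + 3)) := by
    rw [Finset.prod_pow_eq_pow_sum]
    congr 1
    clear h h1 h2 e1 hm
    induction k with
    | zero => rfl
    | succ k ih => rw [Finset.sum_range_succ, ih]; ring
  have h4 : (q ^ (k + 2) + 1) * (q ^ (2 * (0 + 1)) - 1) ≤ q ^ (k + 2) * q ^ 2 := by
    have e : 2 * (0 + 1) = 2 := rfl
    rw [e]
    have h5 : q ^ 2 ≤ q ^ (k + 2) := Nat.pow_le_pow_right (by omega) (by omega)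
    have h6 : 1 ≤ q ^ 2 := Nat.one_le_pow _ _ (by omega)
    obtain ⟨c, hc⟩ : ∃ c, q ^ 2 = c + 1 := ⟨q ^ 2 - 1, by omega⟩
    rw [hc] at h5 ⊢
    rw [Nat.add_sub_cancel]
    nlinarith
  calc q ^ ((k + 2) * (k + 1)) * (q ^ (k + 2) + 1) *
        ((∏ i ∈ Finset.range k, (q ^ (2 * (i + 1 + 1)) - 1)) * (q ^ (2 * (0 + 1)) - 1))
      = q ^ ((k + 2) * (k + 1)) * ((q ^ (k + 2) + 1) * (q ^ (2 * (0 + 1)) - 1)) *
        (∏ i ∈ Finset.range k, (q ^ (2 * (i + 1 + 1)) - 1)) := by ring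
    _ ≤ q ^ ((k + 2) * (k + 1)) * (q ^ (k + 2) * q ^ 2) * q ^ (k * (k + 3)) := by
        rw [← h3]
        exact Nat.mul_le_mul (Nat.mul_le_mul_left _ h4) h2
    _ = q ^ (2 * (k + 2) ^ 2 - (k + 2)) := by
        rw [← pow_add, ← pow_add, ← pow_add]
        congr 1
        have : k + 2 ≤ 2 * (k + 2) ^ 2 := by nlinarith
        zify [this]
        ring

theorem card_aut_le (hF : Fintype.card K = q) (hq : 2 ≤ q) (hm : 4 ≤ m)
    (hab : ∀ z₁ z₂ : K, z₁ ^ 2 + a * z₁ * z₂ + b * z₂ ^ 2 = 0 → z₁ = 0 ∧ z₂ = 0) :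
    Nat.card (MulAut (POmega K (quadFormMinus (m - 1) K a b))) ≤ 8 * q ^ (2 * m ^ 2 - m + 1) := by
  obtain ⟨p, hp⟩ := CharP.exists K
  have hpp : Fact p.Prime := ⟨CharP.char_is_prime K p⟩
  obtain ⟨f, hf⟩ := FiniteField.card K p
  rw [Cfsg.Agent.S0818.result p f f.pos hf.2 m hm a b hab]
  have h1 := card_le hF hq hm hab
  have h2 : (f : ℕ) ≤ q := by
    rw [← hF, hf.2]
    exact (Nat.lt_pow_self hpp.out.one_lt).le
  have h3 : (if p = 2 then 2 else (if Even (m * (p ^ (f : ℕ) - 1) / 2) then 4 else 8)) ≤ 8 := by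
    split_ifs <;> norm_num
  calc _ ≤ 8 * q * q ^ (2 * m ^ 2 - m) := Nat.mul_le_mul (Nat.mul_le_mul h3 h2) h1
    _ = _ := by ring

theorem dvd_card (hF : Fintype.card K = q) (hq : 2 ≤ q) (hm : 4 ≤ m)
    (hab : ∀ z₁ z₂ : K, z₁ ^ 2 + a * z₁ * z₂ + b * z₂ ^ 2 = 0 → z₁ = 0 ∧ z₂ = 0) :
    210 ∣ Nat.card (POmega K (quadFormMinus (m - 1) K a b)) := by
  have h := Cfsg.Agent.S0294.result hF m hm a b hab
  obtain ⟨k, rfl⟩ : ∃ k, m = k + 4 := ⟨m - 4, by omega⟩
  have e1 : k + 4 - 1 = k + 3 := rfl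
  have hprod : ∀ j, 1 ≤ j → j ≤ 3 → q ^ (2 * j) - 1 ∣ ∏ i ∈ Finset.range (k + 3), (q ^ (2 * (i + 1)) - 1) := by
    intro j hj hj3
    have h1 := Finset.dvd_prod_of_mem (fun i => q ^ (2 * (i + 1)) - 1)
      (Finset.mem_range.2 (by omega : j - 1 < k + 3))
    rwa [Nat.sub_add_cancel hj] at h1
  have hodd : ∀ p, p.Prime → p ≠ 2 → p ∣ 105 → p ∣ Nat.card (POmega K (quadFormMinus (k + 4 - 1) K a b)) := by
    intro p hp hp2 hp105
    have h2 : p ∣ Nat.gcd 4 (q ^ (k + 4) + 1) * Nat.card (POmega K (quadFormMinus (k + 4 - 1) K a b)) := by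
      rw [h]
      by_cases hpq : p ∣ q
      · exact ((dvd_pow hpq (by
          have : 0 < (k + 4) * (k + 4 - 1) := Nat.mul_pos (by omega) (by omega)
          omega)).mul_right _).mul_right _
      · apply Dvd.dvd.mul_left
        have h3 : p = 3 ∨ p = 5 ∨ p = 7 := by
          have h4 : p ∈ Nat.primeFactors 105 := by
            rw [Nat.mem_primeFactors]; exact ⟨hp, hp105, by norm_num⟩
          have h5 : Nat.primeFactors 105 = {3, 5, 7} := by
            rw [show (105 : ℕ) = 3 * (5 * 7) by norm_num, Nat.primeFactors_mul (by norm_num) (by norm_num),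
              Nat.primeFactors_mul (by norm_num) (by norm_num), Nat.Prime.primeFactors (by norm_num),
              Nat.Prime.primeFactors (by norm_num), Nat.Prime.primeFactors (by norm_num)]
            rfl
          rw [h5] at h4
          simpa using h4
        have h4 := prime_dvd hp hpq (by omega)
        rcases h3 with rfl | rfl | rfl
        · exact h4.trans (hprod 1 le_rfl (by norm_num))
        · exact h4.trans (hprod 2 (by norm_num) (by norm_num))
        · exact h4.trans (hprod 3 (by norm_num) (by norm_num))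
    refine (Nat.Coprime.dvd_mul_left ?_).1 h2
    have h3 : Nat.Coprime p 4 := (Nat.Prime.coprime_iff_not_dvd hp).2 fun h4 =>
      hp2 ((Nat.prime_dvd_prime_iff_eq hp Nat.prime_two).1 (hp.dvd_of_dvd_pow (show p ∣ 2 ^ 2 from h4)))
    exact Nat.Coprime.coprime_dvd_right (Nat.gcd_dvd_left _ _) h3
  have h8 : 8 ∣ Nat.gcd 4 (q ^ (k + 4) + 1) * Nat.card (POmega K (quadFormMinus (k + 4 - 1) K a b)) := by
    rw [h]
    rcases Nat.even_or_odd q with he | ho
    · refine Dvd.dvd.mul_right (Dvd.dvd.mul_right ?_ _) _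
      have h1 : 2 ^ 3 ∣ q ^ 3 := pow_dvd_pow_of_dvd he.two_dvd 3
      refine h1.trans (pow_dvd_pow q ?_)
      have : 3 * 1 ≤ (k + 4) * (k + 4 - 1) := Nat.mul_le_mul (by omega) (by omega)
      omega
    · apply Dvd.dvd.mul_left
      refine Dvd.dvd.trans ?_ (hprod 1 le_rfl (by norm_num))
      rw [mul_one]
      exact Nat.eight_dvd_sq_sub_one_of_odd ho
  have h2 : 2 ∣ Nat.card (POmega K (quadFormMinus (k + 4 - 1) K a b)) := by
    by_contra hno
    have h1 : Nat.Coprime 8 (Nat.card (POmega K (quadFormMinus (k + 4 - 1) K a b))) := by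
      have h3 : Nat.Coprime 2 (Nat.card (POmega K (quadFormMinus (k + 4 - 1) K a b))) :=
        (Nat.Prime.coprime_iff_not_dvd Nat.prime_two).2 hno
      exact h3.pow_left 3
    have h3 := (h1.dvd_mul_right).1 h8
    have h4 := Nat.le_of_dvd (Nat.gcd_pos_of_pos_left _ (by norm_num)) h3
    have h5 : Nat.gcd 4 (q ^ (k + 4) + 1) ≤ 4 := Nat.le_of_dvd (by norm_num) (Nat.gcd_dvd_left _ _)
    omega
  have h3 := hodd 3 (by norm_num) (by norm_num) (by norm_num)
  have h5 := hodd 5 (by norm_num) (by norm_num) (by norm_num)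
  have h7 := hodd 7 (by norm_num) (by norm_num) (by norm_num)
  omega

end

/-- `b` is a lower bound for the primes not dividing `|T|` -/
theorem dead_size {T : Type*} [Group T] [Finite T] {n s m : ℕ} (hm : 4 ≤ m) (hn : 2 ≤ n)
    (h210 : 210 ∣ Nat.card T) (hA : Nat.card (MulAut T) ≤ 8 * s ^ (2 * m ^ 2 - m + 1))
    (h : 32 * s ^ (4 * m ^ 2 - 2 * m + 2) ≤ 11 ^ (n - 2)) : Dead n T := by
  refine dead_of_pow (b := 11) hn ?_ ?_
  · intro q hq hc
    exact le_of_coprime (o := 210) (by decide) hq (Nat.Coprime.coprime_dvd_right h210 hc)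
  · calc Nat.card (MulAut T) ^ 2 ≤ (8 * s ^ (2 * m ^ 2 - m + 1)) ^ 2 := Nat.pow_le_pow_left hA 2
      _ = 2 * (32 * s ^ (4 * m ^ 2 - 2 * m + 2)) := by
        rw [mul_pow, ← pow_mul]
        have : (2 * m ^ 2 - m + 1) * 2 = 4 * m ^ 2 - 2 * m + 2 := by
          zify [show m ≤ 2 * m ^ 2 by nlinarith, show 2 * m ≤ 4 * m ^ 2 by nlinarith]
          ring
        rw [this]
        ring
      _ ≤ _ := Nat.mul_le_mul_left _ h

section

variable {K : Type} [Field K] [Fintype K] {q m : ℕ} {a b : K}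

/-- explicit orders -/
theorem cards (hF : Fintype.card K = q) (hq : q.Prime) (hm : 4 ≤ m)
    (hab : ∀ z₁ z₂ : K, z₁ ^ 2 + a * z₁ * z₂ + b * z₂ ^ 2 = 0 → z₁ = 0 ∧ z₂ = 0) {o g : ℕ} (hg0 : 0 < g)
    (hg : Nat.gcd 4 (q ^ m + 1) = g)
    (ho : g * o = q ^ (m * (m - 1)) * (q ^ m + 1) * ∏ i ∈ Finset.range (m - 1), (q ^ (2 * (i + 1)) - 1)) :
    Nat.card (POmega K (quadFormMinus (m - 1) K a b)) = o ∧
      Nat.card (MulAut (POmega K (quadFormMinus (m - 1) K a b))) =
        (if q = 2 then 2 else (if Even (m * (q - 1) / 2) then 4 else 8)) * o := by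
  have hqf : Fact q.Prime := ⟨hq⟩
  have h := Cfsg.Agent.S0294.result hF m hm a b hab
  have h1 := Cfsg.Agent.S0818.result q 1 le_rfl (by rw [pow_one]; exact hF) m hm a b hab
  rw [← ho, hg] at h
  have h2 := Nat.eq_of_mul_eq_mul_left hg0 h
  rw [h2, pow_one, mul_one] at h1
  exact ⟨h2, h1⟩


theorem dead_2_4 (hF : Fintype.card K = 2)
    (hab : ∀ z₁ z₂ : K, z₁ ^ 2 + a * z₁ * z₂ + b * z₂ ^ 2 = 0 → z₁ = 0 ∧ z₂ = 0) {n : ℕ} (hn : 14 ≤ n) :
    Dead n (POmega K (quadFormMinus (4 - 1) K a b)) := by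
  obtain ⟨h1, h2⟩ := cards (m := 4) (o := 197406720) (g := 1) hF (by norm_num) (by norm_num) hab (by norm_num)
    (by norm_num) (by decide +kernel)
  have h2' : Nat.card (MulAut (POmega K (quadFormMinus (4 - 1) K a b))) = 394813440 := by
    rw [h2]
    decide +kernel
  exact sieve_dead (n₀ := 14) 11 1200 60 h1 h2' (by norm_num) (by norm_num) (by norm_num) (by decide +kernel)
    (by decide +kernel) hn

theorem dead_2_5 (hF : Fintype.card K = 2)
    (hab : ∀ z₁ z₂ : K, z₁ ^ 2 + a * z₁ * z₂ + b * z₂ ^ 2 = 0 → z₁ = 0 ∧ z₂ = 0) {n : ℕ} (hn : 14 ≤ n) :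
    Dead n (POmega K (quadFormMinus (5 - 1) K a b)) := by
  obtain ⟨h1, h2⟩ := cards (m := 5) (o := 25015379558400) (g := 1) hF (by norm_num) (by norm_num) hab (by norm_num)
    (by norm_num) (by decide +kernel)
  have h2' : Nat.card (MulAut (POmega K (quadFormMinus (5 - 1) K a b))) = 50030759116800 := by
    rw [h2]
    decide +kernel
  exact sieve_dead (n₀ := 14) 13 1200 60 h1 h2' (by norm_num) (by norm_num) (by norm_num) (by decide +kernel)
    (by decide +kernel) hn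

theorem dead_2_6 (hF : Fintype.card K = 2)
    (hab : ∀ z₁ z₂ : K, z₁ ^ 2 + a * z₁ * z₂ + b * z₂ ^ 2 = 0 → z₁ = 0 ∧ z₂ = 0) {n : ℕ} (hn : 15 ≤ n) :
    Dead n (POmega K (quadFormMinus (6 - 1) K a b)) := by
  obtain ⟨h1, h2⟩ := cards (m := 6) (o := 51615733565620224000) (g := 1) hF (by norm_num) (by norm_num) hab (by norm_num)
    (by norm_num) (by decide +kernel)
  have h2' : Nat.card (MulAut (POmega K (quadFormMinus (6 - 1) K a b))) = 103231467131240448000 := by
    rw [h2]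
    decide +kernel
  exact sieve_dead (n₀ := 15) 19 1200 60 h1 h2' (by norm_num) (by norm_num) (by norm_num) (by decide +kernel)
    (by decide +kernel) hn

theorem dead_2_7 (hF : Fintype.card K = 2)
    (hab : ∀ z₁ z₂ : K, z₁ ^ 2 + a * z₁ * z₂ + b * z₂ ^ 2 = 0 → z₁ = 0 ∧ z₂ = 0) {n : ℕ} (hn : 31 ≤ n) :
    Dead n (POmega K (quadFormMinus (7 - 1) K a b)) := by
  obtain ⟨h1, h2⟩ := cards (m := 7) (o := 1718194449153210615595008000) (g := 1) hF (by norm_num) (by norm_num) hab (by norm_num)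
    (by norm_num) (by decide +kernel)
  have h2' : Nat.card (MulAut (POmega K (quadFormMinus (7 - 1) K a b))) = 3436388898306421231190016000 := by
    rw [h2]
    decide +kernel
  exact sieve_dead (n₀ := 31) 19 1200 60 h1 h2' (by norm_num) (by norm_num) (by norm_num) (by decide +kernel)
    (by decide +kernel) hn

theorem dead_2_8 (hF : Fintype.card K = 2)
    (hab : ∀ z₁ z₂ : K, z₁ ^ 2 + a * z₁ * z₂ + b * z₂ ^ 2 = 0 → z₁ = 0 ∧ z₂ = 0) {n : ℕ} (hn : 63 ≤ n) :
    Dead n (POmega K (quadFormMinus (8 - 1) K a b)) := by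
  obtain ⟨h1, h2⟩ := cards (m := 8) (o := 918817155086936330770931156779008000) (g := 1) hF (by norm_num) (by norm_num) hab (by norm_num)
    (by norm_num) (by decide +kernel)
  have h2' : Nat.card (MulAut (POmega K (quadFormMinus (8 - 1) K a b))) = 1837634310173872661541862313558016000 := by
    rw [h2]
    decide +kernel
  exact sieve_dead (n₀ := 63) 19 1200 60 h1 h2' (by norm_num) (by norm_num) (by norm_num) (by decide +kernel)
    (by decide +kernel) hn

theorem dead_3_4 (hF : Fintype.card K = 3)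
    (hab : ∀ z₁ z₂ : K, z₁ ^ 2 + a * z₁ * z₂ + b * z₂ ^ 2 = 0 → z₁ = 0 ∧ z₂ = 0) {n : ℕ} (hn : 26 ≤ n) :
    Dead n (POmega K (quadFormMinus (4 - 1) K a b)) := by
  obtain ⟨h1, h2⟩ := cards (m := 4) (o := 10151968619520) (g := 2) hF (by norm_num) (by norm_num) hab (by norm_num)
    (by norm_num) (by decide +kernel)
  have h2' : Nat.card (MulAut (POmega K (quadFormMinus (4 - 1) K a b))) = 40607874478080 := by
    rw [h2]
    decide +kernel
  exact sieve_dead (n₀ := 26) 11 1200 60 h1 h2' (by norm_num) (by norm_num) (by norm_num) (by decide +kernel)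
    (by decide +kernel) hn

theorem dead_3_5 (hF : Fintype.card K = 3)
    (hab : ∀ z₁ z₂ : K, z₁ ^ 2 + a * z₁ * z₂ + b * z₂ ^ 2 = 0 → z₁ = 0 ∧ z₂ = 0) {n : ℕ} (hn : 26 ≤ n) :
    Dead n (POmega K (quadFormMinus (5 - 1) K a b)) := by
  obtain ⟨h1, h2⟩ := cards (m := 5) (o := 650084965259666227200) (g := 4) hF (by norm_num) (by norm_num) hab (by norm_num)
    (by norm_num) (by decide +kernel)
  have h2' : Nat.card (MulAut (POmega K (quadFormMinus (5 - 1) K a b))) = 5200679722077329817600 := by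
    rw [h2]
    decide +kernel
  exact sieve_dead (n₀ := 26) 11 1200 60 h1 h2' (by norm_num) (by norm_num) (by norm_num) (by decide +kernel)
    (by decide +kernel) hn

end

section

variable {F : Type u} [Field F] [Finite F] {n p : ℕ} [Fact p.Prime] [CharP F p]
  {P : Subgroup (Matrix.GeneralLinearGroup (Fin n) F)}

/-- **B6**: the groups `PΩ⁻_{2m}(s)`. -/
theorem dead_omega_minus (hC : Core P) (hn : 13 ≤ n) (hp : ¬ p ∣ Nat.card (Soc P))
    (hT : Cfsg.IsPOmegaMinus (Soc P)) : Dead n (Soc P) := by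
  obtain ⟨K, iK, iF, m, a, b, hm, hab, ⟨e⟩⟩ := hT
  obtain ⟨r, hr⟩ := CharP.exists K
  have hrp : r.Prime := CharP.char_is_prime K r
  have hrF' : Fact r.Prime := ⟨hrp⟩
  have hq2 : 2 ≤ Fintype.card K := Fintype.one_lt_card
  have hrq : r ∣ Fintype.card K := by
    obtain ⟨f, hf⟩ := FiniteField.card K r
    rw [hf.2]
    exact dvd_pow_self r f.pos.ne'
  have hT : Nat.card (Soc P) = Nat.card (POmega K (quadFormMinus (m - 1) K a b)) := Nat.card_congr e.toEquiv
  have hrT : r ∣ Nat.card (POmega K (quadFormMinus (m - 1) K a b)) := by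
    have h210 := dvd_card (K := K) rfl hq2 hm hab
    by_cases hr2 : r = 2
    · rw [hr2]; exact (by norm_num : 2 ∣ 210).trans h210
    · have h := Cfsg.Agent.S0294.result (F := K) rfl m hm a b hab
      have h1 : r ∣ Nat.gcd 4 (Fintype.card K ^ m + 1) * Nat.card (POmega K (quadFormMinus (m - 1) K a b)) := by
        rw [h]
        refine ((dvd_pow hrq ?_).mul_right _).mul_right _
        have : 0 < m * (m - 1) := Nat.mul_pos (by omega) (by omega)
        omega
      refine (Nat.Coprime.dvd_mul_left ?_).1 h1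
      have h3 : Nat.Coprime r 4 := (Nat.Prime.coprime_iff_not_dvd hrp).2 fun h4 =>
        hr2 ((Nat.prime_dvd_prime_iff_eq hrp Nat.prime_two).1 (hrp.dvd_of_dvd_pow (show r ∣ 2 ^ 2 from h4)))
      exact Nat.Coprime.coprime_dvd_right (Nat.gcd_dvd_left _ _) h3
  have hrp' : (r : F) ≠ 0 := by
    intro h0
    have h1 : p ∣ r := (CharP.cast_eq_zero_iff F p r).1 h0
    exact hp (hT ▸ h1.trans hrT)
  have hPR : PR F n r (Soc P) :=
    PR.of_noR (noR_omega_minus hrp ⟨K, iK, iF, hr, m, a, b, hm, hab, ⟨e⟩⟩) P hC.perfect (MulEquiv.refl _)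
  have b1 : Fintype.card K ^ 3 - 1 ≤ n :=
    ((bd_pomega_minus_cube (F := F) hrp hrp' hr (by omega : 3 ≤ m - 1) a b).congr e) n hPR
  have b2 : Fintype.card K ^ (m - 1 - 1) - 1 ≤ n :=
    ((bd_pomega_minus_sl (F := F) hrp hrp' hr (by omega : 3 ≤ m - 1) a b).congr e) n hPR
  have b3 : 14 ≤ n := ((bd_pomega_minus (F := F) hrp hrp' hr hm a b hab).congr e) n hPR
  have e2 : m - 1 - 1 = m - 2 := by omega
  rw [e2] at b2
  refine Dead.congr e.symm ?_
  have hfin : Finite (Soc P) := inferInstance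
  have hfin' : Finite (POmega K (quadFormMinus (m - 1) K a b)) := Finite.of_equiv _ e.toEquiv
  by_cases hbig : (4 ≤ Fintype.card K) ∨ (Fintype.card K = 3 ∧ 6 ≤ m) ∨ (Fintype.card K = 2 ∧ 9 ≤ m)
  · exact dead_size hm (by omega) (dvd_card rfl hq2 hm hab) (card_aut_le rfl hq2 hm hab) (big hq2 hm b2 b1 hbig)
  have h23 : Fintype.card K = 2 ∨ Fintype.card K = 3 := by omega
  rcases h23 with h2 | h3
  · rw [h2] at b1 b2 hbig
    have hm8 : m ≤ 8 := by omega
    interval_cases m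
    · exact dead_2_4 h2 hab b3
    · exact dead_2_5 h2 hab b3
    · exact dead_2_6 h2 hab (by norm_num at b2; omega)
    · exact dead_2_7 h2 hab (by norm_num at b2; omega)
    · exact dead_2_8 h2 hab (by norm_num at b2; omega)
  · rw [h3] at b1 b2 hbig
    have hm8 : m ≤ 5 := by omega
    interval_cases m
    · exact dead_3_4 h3 hab (by norm_num at b1; omega)
    · exact dead_3_5 h3 hab (by norm_num at b1; omega)

end

end Cfsg.Agent.H79.HT
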