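import Cfsg.Agent.H79.HT.ArithP
import Cfsg.Agent.H79.HT.OMinus
import Cfsg.Agent.H337.HT.TabP

/-!
# S3512, row PB6: `PΩ⁻_{2m}(s)`, `p ∣ |T|` (helper79)
-/

set_option autoImplicit false
set_option linter.unusedSectionVars false
set_option linter.unusedVariables false

universe u

namespace Cfsg.Agent.H79.HT.P

open Cfsg Cfsg.Agent.H915.LD Cfsg.Agent.H337.HT Cfsg.Agent.H912.Bd

theorem deadP_size {T : Type u} [Group T] [Finite T] {p n s m b : ℕ} (hp : p.Prime) (hm : 4 ≤ m) (hn : 2 ≤ n)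
    (hb : b ≤ p) (hA : Nat.card (MulAut T) ≤ 8 * s ^ (2 * m ^ 2 - m + 1))
    (h : 128 * s ^ (4 * m ^ 2 - 2 * m + 2) ≤ b ^ (n - 2)) : DeadP p n T := by
  refine deadP_of_pow hp hn hb hA Nat.card_pos ?_
  calc 2 * (8 * s ^ (2 * m ^ 2 - m + 1)) ^ 2 = 128 * s ^ (4 * m ^ 2 - 2 * m + 2) := by
        rw [mul_pow, ← pow_mul]
        have : (2 * m ^ 2 - m + 1) * 2 = 4 * m ^ 2 - 2 * m + 2 := by
          zify [show m ≤ 2 * m ^ 2 by nlinarith, show 2 * m ≤ 4 * m ^ 2 by nlinarith]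
          ring
        rw [this]
        ring
    _ ≤ _ := h

section

variable {K : Type} [Field K] [Fintype K] {a b : K}

/-- explicit orders -/
theorem cards' {r f m : ℕ} (hr : r.Prime) (hf : 1 ≤ f) (hF : Fintype.card K = r ^ f) (hm : 4 ≤ m)
    (hab : ∀ z₁ z₂ : K, z₁ ^ 2 + a * z₁ * z₂ + b * z₂ ^ 2 = 0 → z₁ = 0 ∧ z₂ = 0) {o g : ℕ} (hg0 : 0 < g)
    (hg : Nat.gcd 4 ((r ^ f) ^ m + 1) = g)
    (ho : g * o = (r ^ f) ^ (m * (m - 1)) * ((r ^ f) ^ m + 1) * ∏ i ∈ Finset.range (m - 1), ((r ^ f) ^ (2 * (i + 1)) - 1)) :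
    Nat.card (POmega K (quadFormMinus (m - 1) K a b)) = o ∧
      Nat.card (MulAut (POmega K (quadFormMinus (m - 1) K a b))) =
        (if r = 2 then 2 else (if Even (m * (r ^ f - 1) / 2) then 4 else 8)) * f * o := by
  have hqf : Fact r.Prime := ⟨hr⟩
  have h := Cfsg.Agent.S0294.result hF m hm a b hab
  have h1 := Cfsg.Agent.S0818.result r f hf hF m hm a b hab
  rw [← ho, hg] at h
  have h2 := Nat.eq_of_mul_eq_mul_left hg0 h
  rw [h2] at h1
  exact ⟨h2, h1⟩

theorem dead_2_4 (hF : Fintype.card K = 2)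
    (hab : ∀ z₁ z₂ : K, z₁ ^ 2 + a * z₁ * z₂ + b * z₂ ^ 2 = 0 → z₁ = 0 ∧ z₂ = 0) {p n : ℕ} (hp : p.Prime)
    (hd : p ∣ Nat.card (POmega K (quadFormMinus (4 - 1) K a b))) (hpr : p ≠ 2) (hn : 14 ≤ n) :
    DeadP p n (POmega K (quadFormMinus (4 - 1) K a b)) := by
  obtain ⟨h1, h2⟩ := cards' (r := 2) (f := 1) (m := 4) (o := 197406720) (g := 1) (by norm_num) (by norm_num)
    (by rw [hF]; norm_num) (by norm_num) hab (by norm_num) (by norm_num) (by decide +kernel)
  have h2' : Nat.card (MulAut (POmega K (quadFormMinus (4 - 1) K a b))) ∣ 394813440 := by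
    rw [h2]
    exact ⟨1, by decide +kernel⟩
  exact deadP_sieve 2 [3, 5, 7, 17] h1 h2' (by
    intro t ht
    simp only [List.mem_cons, List.not_mem_nil, or_false] at ht
    rcases ht with rfl | rfl | rfl | rfl | rfl <;> norm_num) TabP.pom8_2 hp hd hpr hn

theorem dead_2_5 (hF : Fintype.card K = 2)
    (hab : ∀ z₁ z₂ : K, z₁ ^ 2 + a * z₁ * z₂ + b * z₂ ^ 2 = 0 → z₁ = 0 ∧ z₂ = 0) {p n : ℕ} (hp : p.Prime)
    (hd : p ∣ Nat.card (POmega K (quadFormMinus (5 - 1) K a b))) (hpr : p ≠ 2) (hn : 14 ≤ n) :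
    DeadP p n (POmega K (quadFormMinus (5 - 1) K a b)) := by
  obtain ⟨h1, h2⟩ := cards' (r := 2) (f := 1) (m := 5) (o := 25015379558400) (g := 1) (by norm_num) (by norm_num)
    (by rw [hF]; norm_num) (by norm_num) hab (by norm_num) (by norm_num) (by decide +kernel)
  have h2' : Nat.card (MulAut (POmega K (quadFormMinus (5 - 1) K a b))) ∣ 50030759116800 := by
    rw [h2]
    exact ⟨1, by decide +kernel⟩
  exact deadP_sieve 2 [3, 5, 7, 11, 17] h1 h2' (by
    intro t ht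
    simp only [List.mem_cons, List.not_mem_nil, or_false] at ht
    rcases ht with rfl | rfl | rfl | rfl | rfl | rfl <;> norm_num) TabP.pom10_2 hp hd hpr hn

theorem dead_2_6 (hF : Fintype.card K = 2)
    (hab : ∀ z₁ z₂ : K, z₁ ^ 2 + a * z₁ * z₂ + b * z₂ ^ 2 = 0 → z₁ = 0 ∧ z₂ = 0) {p n : ℕ} (hp : p.Prime)
    (hd : p ∣ Nat.card (POmega K (quadFormMinus (6 - 1) K a b))) (hpr : p ≠ 2) (hn : 15 ≤ n) :
    DeadP p n (POmega K (quadFormMinus (6 - 1) K a b)) := by
  obtain ⟨h1, h2⟩ := cards' (r := 2) (f := 1) (m := 6) (o := 51615733565620224000) (g := 1) (by norm_num) (by norm_num)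
    (by rw [hF]; norm_num) (by norm_num) hab (by norm_num) (by norm_num) (by decide +kernel)
  have h2' : Nat.card (MulAut (POmega K (quadFormMinus (6 - 1) K a b))) ∣ 103231467131240448000 := by
    rw [h2]
    exact ⟨1, by decide +kernel⟩
  exact deadP_sieve 2 [3, 5, 7, 11, 13, 17, 31] h1 h2' (by
    intro t ht
    simp only [List.mem_cons, List.not_mem_nil, or_false] at ht
    rcases ht with rfl | rfl | rfl | rfl | rfl | rfl | rfl | rfl <;> norm_num) TabP.pom12_2 hp hd hpr hn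

theorem dead_2_7 (hF : Fintype.card K = 2)
    (hab : ∀ z₁ z₂ : K, z₁ ^ 2 + a * z₁ * z₂ + b * z₂ ^ 2 = 0 → z₁ = 0 ∧ z₂ = 0) {p n : ℕ} (hp : p.Prime)
    (hd : p ∣ Nat.card (POmega K (quadFormMinus (7 - 1) K a b))) (hpr : p ≠ 2) (hn : 31 ≤ n) :
    DeadP p n (POmega K (quadFormMinus (7 - 1) K a b)) := by
  obtain ⟨h1, h2⟩ := cards' (r := 2) (f := 1) (m := 7) (o := 1718194449153210615595008000) (g := 1) (by norm_num) (by norm_num)
    (by rw [hF]; norm_num) (by norm_num) hab (by norm_num) (by norm_num) (by decide +kernel)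
  have h2' : Nat.card (MulAut (POmega K (quadFormMinus (7 - 1) K a b))) ∣ 3436388898306421231190016000 := by
    rw [h2]
    exact ⟨1, by decide +kernel⟩
  exact deadP_sieve 2 [3, 5, 7, 11, 13, 17, 31, 43] h1 h2' (by
    intro t ht
    simp only [List.mem_cons, List.not_mem_nil, or_false] at ht
    rcases ht with rfl | rfl | rfl | rfl | rfl | rfl | rfl | rfl | rfl <;> norm_num) TabP.pom14_2 hp hd hpr hn

theorem dead_2_8 (hF : Fintype.card K = 2)
    (hab : ∀ z₁ z₂ : K, z₁ ^ 2 + a * z₁ * z₂ + b * z₂ ^ 2 = 0 → z₁ = 0 ∧ z₂ = 0) {p n : ℕ} (hp : p.Prime)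
    (hd : p ∣ Nat.card (POmega K (quadFormMinus (8 - 1) K a b))) (hpr : p ≠ 2) (hn : 63 ≤ n) :
    DeadP p n (POmega K (quadFormMinus (8 - 1) K a b)) := by
  obtain ⟨h1, h2⟩ := cards' (r := 2) (f := 1) (m := 8) (o := 918817155086936330770931156779008000) (g := 1) (by norm_num) (by norm_num)
    (by rw [hF]; norm_num) (by norm_num) hab (by norm_num) (by norm_num) (by decide +kernel)
  have h2' : Nat.card (MulAut (POmega K (quadFormMinus (8 - 1) K a b))) ∣ 1837634310173872661541862313558016000 := by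
    rw [h2]
    exact ⟨1, by decide +kernel⟩
  exact deadP_sieve 2 [3, 5, 7, 11, 13, 17, 31, 43, 127, 257] h1 h2' (by
    intro t ht
    simp only [List.mem_cons, List.not_mem_nil, or_false] at ht
    rcases ht with rfl | rfl | rfl | rfl | rfl | rfl | rfl | rfl | rfl | rfl | rfl <;> norm_num) TabP.pom16_2 hp hd hpr hn

theorem dead_2_9 (hF : Fintype.card K = 2)
    (hab : ∀ z₁ z₂ : K, z₁ ^ 2 + a * z₁ * z₂ + b * z₂ ^ 2 = 0 → z₁ = 0 ∧ z₂ = 0) {p n : ℕ} (hp : p.Prime)
    (hd : p ∣ Nat.card (POmega K (quadFormMinus (9 - 1) K a b))) (hpr : p ≠ 2) (hn : 127 ≤ n) :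
    DeadP p n (POmega K (quadFormMinus (9 - 1) K a b)) := by
  obtain ⟨h1, h2⟩ := cards' (r := 2) (f := 1) (m := 9) (o := 7877103854727828347931810809383874168094720000) (g := 1) (by norm_num) (by norm_num)
    (by rw [hF]; norm_num) (by norm_num) hab (by norm_num) (by norm_num) (by decide +kernel)
  have h2' : Nat.card (MulAut (POmega K (quadFormMinus (9 - 1) K a b))) ∣ 15754207709455656695863621618767748336189440000 := by
    rw [h2]
    exact ⟨1, by decide +kernel⟩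
  exact deadP_sieve 2 [3, 5, 7, 11, 13, 17, 19, 31, 43, 127, 257] h1 h2' (by
    intro t ht
    simp only [List.mem_cons, List.not_mem_nil, or_false] at ht
    rcases ht with rfl | rfl | rfl | rfl | rfl | rfl | rfl | rfl | rfl | rfl | rfl | rfl <;> norm_num) TabP.pom18_2 hp hd hpr hn

theorem dead_3_4 (hF : Fintype.card K = 3)
    (hab : ∀ z₁ z₂ : K, z₁ ^ 2 + a * z₁ * z₂ + b * z₂ ^ 2 = 0 → z₁ = 0 ∧ z₂ = 0) {p n : ℕ} (hp : p.Prime)
    (hd : p ∣ Nat.card (POmega K (quadFormMinus (4 - 1) K a b))) (hpr : p ≠ 3) (hn : 26 ≤ n) :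
    DeadP p n (POmega K (quadFormMinus (4 - 1) K a b)) := by
  obtain ⟨h1, h2⟩ := cards' (r := 3) (f := 1) (m := 4) (o := 10151968619520) (g := 2) (by norm_num) (by norm_num)
    (by rw [hF]; norm_num) (by norm_num) hab (by norm_num) (by norm_num) (by decide +kernel)
  have h2' : Nat.card (MulAut (POmega K (quadFormMinus (4 - 1) K a b))) ∣ 81215748956160 := by
    rw [h2]
    exact ⟨2, by decide +kernel⟩
  exact deadP_sieve 3 [2, 5, 7, 13, 41] h1 h2' (by
    intro t ht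
    simp only [List.mem_cons, List.not_mem_nil, or_false] at ht
    rcases ht with rfl | rfl | rfl | rfl | rfl | rfl <;> norm_num) TabP.pom8_3 hp hd hpr hn

theorem dead_3_5 (hF : Fintype.card K = 3)
    (hab : ∀ z₁ z₂ : K, z₁ ^ 2 + a * z₁ * z₂ + b * z₂ ^ 2 = 0 → z₁ = 0 ∧ z₂ = 0) {p n : ℕ} (hp : p.Prime)
    (hd : p ∣ Nat.card (POmega K (quadFormMinus (5 - 1) K a b))) (hpr : p ≠ 3) (hn : 26 ≤ n) :
    DeadP p n (POmega K (quadFormMinus (5 - 1) K a b)) := by
  obtain ⟨h1, h2⟩ := cards' (r := 3) (f := 1) (m := 5) (o := 650084965259666227200) (g := 4) (by norm_num) (by norm_num)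
    (by rw [hF]; norm_num) (by norm_num) hab (by norm_num) (by norm_num) (by decide +kernel)
  have h2' : Nat.card (MulAut (POmega K (quadFormMinus (5 - 1) K a b))) ∣ 5200679722077329817600 := by
    rw [h2]
    exact ⟨1, by decide +kernel⟩
  exact deadP_sieve 3 [2, 5, 7, 13, 41, 61] h1 h2' (by
    intro t ht
    simp only [List.mem_cons, List.not_mem_nil, or_false] at ht
    rcases ht with rfl | rfl | rfl | rfl | rfl | rfl | rfl <;> norm_num) TabP.pom10_3 hp hd hpr hn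

theorem dead_3_6 (hF : Fintype.card K = 3)
    (hab : ∀ z₁ z₂ : K, z₁ ^ 2 + a * z₁ * z₂ + b * z₂ ^ 2 = 0 → z₁ = 0 ∧ z₂ = 0) {p n : ℕ} (hp : p.Prime)
    (hd : p ∣ Nat.card (POmega K (quadFormMinus (6 - 1) K a b))) (hpr : p ≠ 3) (hn : 80 ≤ n) :
    DeadP p n (POmega K (quadFormMinus (6 - 1) K a b)) := by
  obtain ⟨h1, h2⟩ := cards' (r := 3) (f := 1) (m := 6) (o := 13562847888583522730562256896000) (g := 2) (by norm_num) (by norm_num)
    (by rw [hF]; norm_num) (by norm_num) hab (by norm_num) (by norm_num) (by decide +kernel)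
  have h2' : Nat.card (MulAut (POmega K (quadFormMinus (6 - 1) K a b))) ∣ 108502783108668181844498055168000 := by
    rw [h2]
    exact ⟨2, by decide +kernel⟩
  exact deadP_sieve 3 [2, 5, 7, 11, 13, 41, 61, 73] h1 h2' (by
    intro t ht
    simp only [List.mem_cons, List.not_mem_nil, or_false] at ht
    rcases ht with rfl | rfl | rfl | rfl | rfl | rfl | rfl | rfl | rfl <;> norm_num) TabP.pom12_3 hp hd hpr hn

theorem dead_3_7 (hF : Fintype.card K = 3)
    (hab : ∀ z₁ z₂ : K, z₁ ^ 2 + a * z₁ * z₂ + b * z₂ ^ 2 = 0 → z₁ = 0 ∧ z₂ = 0) {p n : ℕ} (hp : p.Prime)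
    (hd : p ∣ Nat.card (POmega K (quadFormMinus (7 - 1) K a b))) (hpr : p ≠ 3) (hn : 242 ≤ n) :
    DeadP p n (POmega K (quadFormMinus (7 - 1) K a b)) := by
  obtain ⟨h1, h2⟩ := cards' (r := 3) (f := 1) (m := 7) (o := 5740565134714480760418669730296013258752000) (g := 4) (by norm_num) (by norm_num)
    (by rw [hF]; norm_num) (by norm_num) hab (by norm_num) (by norm_num) (by decide +kernel)
  have h2' : Nat.card (MulAut (POmega K (quadFormMinus (7 - 1) K a b))) ∣ 45924521077715846083349357842368106070016000 := by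
    rw [h2]
    exact ⟨1, by decide +kernel⟩
  exact deadP_sieve 3 [2, 5, 7, 11, 13, 41, 61, 73, 547] h1 h2' (by
    intro t ht
    simp only [List.mem_cons, List.not_mem_nil, or_false] at ht
    rcases ht with rfl | rfl | rfl | rfl | rfl | rfl | rfl | rfl | rfl | rfl <;> norm_num) TabP.pom14_3 hp hd hpr hn

theorem dead_4_4 (hF : Fintype.card K = 4)
    (hab : ∀ z₁ z₂ : K, z₁ ^ 2 + a * z₁ * z₂ + b * z₂ ^ 2 = 0 → z₁ = 0 ∧ z₂ = 0) {p n : ℕ} (hp : p.Prime)
    (hd : p ∣ Nat.card (POmega K (quadFormMinus (4 - 1) K a b))) (hpr : p ≠ 2) (hn : 63 ≤ n) :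
    DeadP p n (POmega K (quadFormMinus (4 - 1) K a b)) := by
  obtain ⟨h1, h2⟩ := cards' (r := 2) (f := 2) (m := 4) (o := 67536471195648000) (g := 1) (by norm_num) (by norm_num)
    (by rw [hF]; norm_num) (by norm_num) hab (by norm_num) (by norm_num) (by decide +kernel)
  have h2' : Nat.card (MulAut (POmega K (quadFormMinus (4 - 1) K a b))) ∣ 270145884782592000 := by
    rw [h2]
    exact ⟨1, by decide +kernel⟩
  exact deadP_sieve 2 [3, 5, 7, 13, 17, 257] h1 h2' (by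
    intro t ht
    simp only [List.mem_cons, List.not_mem_nil, or_false] at ht
    rcases ht with rfl | rfl | rfl | rfl | rfl | rfl | rfl <;> norm_num) TabP.pom8_4 hp hd hpr hn

theorem dead_4_5 (hF : Fintype.card K = 4)
    (hab : ∀ z₁ z₂ : K, z₁ ^ 2 + a * z₁ * z₂ + b * z₂ ^ 2 = 0 → z₁ = 0 ∧ z₂ = 0) {p n : ℕ} (hp : p.Prime)
    (hd : p ∣ Nat.card (POmega K (quadFormMinus (5 - 1) K a b))) (hpr : p ≠ 2) (hn : 63 ≤ n) :
    DeadP p n (POmega K (quadFormMinus (5 - 1) K a b)) := by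
  obtain ⟨h1, h2⟩ := cards' (r := 2) (f := 2) (m := 5) (o := 1156864092324658937856000000) (g := 1) (by norm_num) (by norm_num)
    (by rw [hF]; norm_num) (by norm_num) hab (by norm_num) (by norm_num) (by decide +kernel)
  have h2' : Nat.card (MulAut (POmega K (quadFormMinus (5 - 1) K a b))) ∣ 4627456369298635751424000000 := by
    rw [h2]
    exact ⟨1, by decide +kernel⟩
  exact deadP_sieve 2 [3, 5, 7, 13, 17, 41, 257] h1 h2' (by
    intro t ht
    simp only [List.mem_cons, List.not_mem_nil, or_false] at ht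
    rcases ht with rfl | rfl | rfl | rfl | rfl | rfl | rfl | rfl <;> norm_num) TabP.pom10_4 hp hd hpr hn

theorem dead_5_4 (hF : Fintype.card K = 5)
    (hab : ∀ z₁ z₂ : K, z₁ ^ 2 + a * z₁ * z₂ + b * z₂ ^ 2 = 0 → z₁ = 0 ∧ z₂ = 0) {p n : ℕ} (hp : p.Prime)
    (hd : p ∣ Nat.card (POmega K (quadFormMinus (4 - 1) K a b))) (hpr : p ≠ 5) (hn : 124 ≤ n) :
    DeadP p n (POmega K (quadFormMinus (4 - 1) K a b)) := by
  obtain ⟨h1, h2⟩ := cards' (r := 5) (f := 1) (m := 4) (o := 17880203250000000000) (g := 2) (by norm_num) (by norm_num)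
    (by rw [hF]; norm_num) (by norm_num) hab (by norm_num) (by norm_num) (by decide +kernel)
  have h2' : Nat.card (MulAut (POmega K (quadFormMinus (4 - 1) K a b))) ∣ 143041626000000000000 := by
    rw [h2]
    exact ⟨2, by decide +kernel⟩
  exact deadP_sieve 5 [2, 3, 7, 13, 31, 313] h1 h2' (by
    intro t ht
    simp only [List.mem_cons, List.not_mem_nil, or_false] at ht
    rcases ht with rfl | rfl | rfl | rfl | rfl | rfl | rfl <;> norm_num) TabP.pom8_5 hp hd hpr hn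

theorem dead_5_5 (hF : Fintype.card K = 5)
    (hab : ∀ z₁ z₂ : K, z₁ ^ 2 + a * z₁ * z₂ + b * z₂ ^ 2 = 0 → z₁ = 0 ∧ z₂ = 0) {p n : ℕ} (hp : p.Prime)
    (hd : p ∣ Nat.card (POmega K (quadFormMinus (5 - 1) K a b))) (hpr : p ≠ 5) (hn : 124 ≤ n) :
    DeadP p n (POmega K (quadFormMinus (5 - 1) K a b)) := by
  obtain ⟨h1, h2⟩ := cards' (r := 5) (f := 1) (m := 5) (o := 13624044368878125000000000000000) (g := 2) (by norm_num) (by norm_num)
    (by rw [hF]; norm_num) (by norm_num) hab (by norm_num) (by norm_num) (by decide +kernel)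
  have h2' : Nat.card (MulAut (POmega K (quadFormMinus (5 - 1) K a b))) ∣ 108992354951025000000000000000000 := by
    rw [h2]
    exact ⟨2, by decide +kernel⟩
  exact deadP_sieve 5 [2, 3, 7, 13, 31, 313, 521] h1 h2' (by
    intro t ht
    simp only [List.mem_cons, List.not_mem_nil, or_false] at ht
    rcases ht with rfl | rfl | rfl | rfl | rfl | rfl | rfl | rfl <;> norm_num) TabP.pom10_5 hp hd hpr hn

end

section

variable {F : Type u} [Field F] [Finite F] {n p : ℕ} [Fact p.Prime] [CharP F p]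
  {P : Subgroup (Matrix.GeneralLinearGroup (Fin n) F)}

/-- **PB6**: the groups `PΩ⁻_{2m}(s)`, `p ∣ |T|`. -/
theorem deadP_omega_minus (hC : Core P) (hn : 13 ≤ n) (hp : p ∣ Nat.card (Soc P))
    (hL : ¬ Cfsg.IsLieTypeChar p (Soc P)) (hT : Cfsg.IsPOmegaMinus (Soc P)) : DeadP p n (Soc P) := by
  obtain ⟨K, iK, iF, m, a, b, hm, hab, ⟨e⟩⟩ := hT
  obtain ⟨r, hr⟩ := CharP.exists K
  have hpp : p.Prime := Fact.out
  have hrp : r.Prime := CharP.char_is_prime K r
  have hrF' : Fact r.Prime := ⟨hrp⟩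
  have hq2 : 2 ≤ Fintype.card K := Fintype.one_lt_card
  have hrq : r ∣ Fintype.card K := by
    obtain ⟨f, hf⟩ := FiniteField.card K r
    rw [hf.2]
    exact dvd_pow_self r f.pos.ne'
  have hrs : ∀ t : ℕ, t.Prime → t ∣ Fintype.card K → t = r := by
    intro t ht htd
    obtain ⟨f, hf⟩ := FiniteField.card K r
    rw [hf.2] at htd
    exact (Nat.prime_dvd_prime_iff_eq ht hrp).1 (ht.dvd_of_dvd_pow htd)
  have hpr : p ≠ r := by
    rintro rfl
    exact hL (Or.inr (Or.inr (Or.inr (Or.inr (Or.inr (Or.inl ⟨K, iK, iF, hr, m, a, b, hm, hab, ⟨e⟩⟩))))))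
  have hT : Nat.card (Soc P) = Nat.card (POmega K (quadFormMinus (m - 1) K a b)) := Nat.card_congr e.toEquiv
  have hrp' : (r : F) ≠ 0 := by
    intro h0
    have h1 : p ∣ r := (CharP.cast_eq_zero_iff F p r).1 h0
    exact hpr ((Nat.prime_dvd_prime_iff_eq hpp hrp).1 h1)
  have hPR : PR F n r (Soc P) :=
    PR.of_noR (noR_omega_minus hrp ⟨K, iK, iF, hr, m, a, b, hm, hab, ⟨e⟩⟩) P hC.perfect (MulEquiv.refl _)
  have b1 : Fintype.card K ^ 3 - 1 ≤ n :=
    ((bd_pomega_minus_cube (F := F) hrp hrp' hr (by omega : 3 ≤ m - 1) a b).congr e) n hPR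
  have b2 : Fintype.card K ^ (m - 1 - 1) - 1 ≤ n :=
    ((bd_pomega_minus_sl (F := F) hrp hrp' hr (by omega : 3 ≤ m - 1) a b).congr e) n hPR
  have b3 : 14 ≤ n := ((bd_pomega_minus (F := F) hrp hrp' hr hm a b hab).congr e) n hPR
  have e2 : m - 1 - 1 = m - 2 := by omega
  rw [e2] at b2
  rw [hT] at hp
  refine DeadP.congr e.symm ?_
  have hfin : Finite (Soc P) := inferInstance
  have hfin' : Finite (POmega K (quadFormMinus (m - 1) K a b)) := Finite.of_equiv _ e.toEquiv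
  by_cases hbig : 7 ≤ Fintype.card K ∨ (Fintype.card K = 5 ∧ 6 ≤ m) ∨ (Fintype.card K = 4 ∧ 6 ≤ m) ∨
      (Fintype.card K = 3 ∧ 8 ≤ m) ∨ (Fintype.card K = 2 ∧ 10 ≤ m)
  · by_cases hev : Even (Fintype.card K)
    · have hr2 : 2 = r := hrs 2 Nat.prime_two hev.two_dvd
      have hp3 : 3 ≤ p := by
        have := hpp.two_le
        omega
      exact deadP_size hpp hm (by omega) hp3 (card_aut_le rfl hq2 hm hab)
        (big hq2 hm (by norm_num) (fun _ => le_rfl) b2 b1 hbig)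
    · exact deadP_size hpp hm (by omega) hpp.two_le (card_aut_le rfl hq2 hm hab)
        (big hq2 hm le_rfl (fun h => absurd h hev) b2 b1 hbig)
  have h6 : Fintype.card K ≠ 6 := by
    intro h
    have h2 := hrs 2 Nat.prime_two (by rw [h]; norm_num)
    have h3 := hrs 3 Nat.prime_three (by rw [h]; norm_num)
    omega
  have h2345 : Fintype.card K = 2 ∨ Fintype.card K = 3 ∨ Fintype.card K = 4 ∨ Fintype.card K = 5 := by omega
  rcases h2345 with h2 | h3 | h4 | h5
  · have hr2 : 2 = r := hrs 2 Nat.prime_two (by rw [h2])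
    rw [← hr2] at hpr
    rw [h2] at b1 b2 hbig
    have hm9 : m ≤ 9 := by omega
    interval_cases m
    · exact dead_2_4 h2 hab hpp hp hpr b3
    · exact dead_2_5 h2 hab hpp hp hpr b3
    · exact dead_2_6 h2 hab hpp hp hpr (by norm_num at b2; omega)
    · exact dead_2_7 h2 hab hpp hp hpr (by norm_num at b2; omega)
    · exact dead_2_8 h2 hab hpp hp hpr (by norm_num at b2; omega)
    · exact dead_2_9 h2 hab hpp hp hpr (by norm_num at b2; omega)
  · have hr2 : 3 = r := hrs 3 Nat.prime_three (by rw [h3])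
    rw [← hr2] at hpr
    rw [h3] at b1 b2 hbig
    have hm7 : m ≤ 7 := by omega
    interval_cases m
    · exact dead_3_4 h3 hab hpp hp hpr (by norm_num at b1; omega)
    · exact dead_3_5 h3 hab hpp hp hpr (by norm_num at b1; omega)
    · exact dead_3_6 h3 hab hpp hp hpr (by norm_num at b2; omega)
    · exact dead_3_7 h3 hab hpp hp hpr (by norm_num at b2; omega)
  · have hr2 : 2 = r := hrs 2 Nat.prime_two (by rw [h4]; norm_num)
    rw [← hr2] at hpr
    rw [h4] at b1 b2 hbig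
    have hm5 : m ≤ 5 := by omega
    interval_cases m
    · exact dead_4_4 h4 hab hpp hp hpr (by norm_num at b1; omega)
    · exact dead_4_5 h4 hab hpp hp hpr (by norm_num at b1; omega)
  · have hr2 : 5 = r := hrs 5 Nat.prime_five (by rw [h5])
    rw [← hr2] at hpr
    rw [h5] at b1 b2 hbig
    have hm5 : m ≤ 5 := by omega
    interval_cases m
    · exact dead_5_4 h5 hab hpp hp hpr (by norm_num at b1; omega)
    · exact dead_5_5 h5 hab hpp hp hpr (by norm_num at b1; omega)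

end

end Cfsg.Agent.H79.HT.P
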