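import Mathlib
import Cfsg.Agent.H337.HT.Num

/-!
# S3540, row B6: arithmetic (helper79)
-/

set_option autoImplicit false

namespace Cfsg.Agent.H79.HT

open Cfsg.Agent.H337.HT

/-- `s ^ 13 ≤ 121 ^ s` -/
theorem pow13 (s : ℕ) : s ^ 13 ≤ 121 ^ s := by
  rcases Nat.lt_or_ge s 3 with h | h
  · interval_cases s <;> norm_num
  · induction s, h using Nat.le_induction with
    | base => norm_num
    | succ s hs ih =>
      have h1 : (s + 1) ^ 13 ≤ 121 * s ^ 13 := by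
        have h2 : 3 * (s + 1) ≤ 4 * s := by omega
        have h3 : (3 * (s + 1)) ^ 13 ≤ (4 * s) ^ 13 := Nat.pow_le_pow_left h2 13
        rw [mul_pow, mul_pow] at h3
        have h4 : (4 : ℕ) ^ 13 ≤ 3 ^ 13 * 121 := by norm_num
        have h5 : 3 ^ 13 * (s + 1) ^ 13 ≤ 3 ^ 13 * (121 * s ^ 13) := by
          calc 3 ^ 13 * (s + 1) ^ 13 ≤ 4 ^ 13 * s ^ 13 := h3
            _ ≤ 3 ^ 13 * 121 * s ^ 13 := Nat.mul_le_mul_right _ h4
            _ = _ := by ring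
        exact Nat.le_of_mul_le_mul_left h5 (by norm_num)
      calc (s + 1) ^ 13 ≤ 121 * s ^ 13 := h1
        _ ≤ 121 * 121 ^ s := Nat.mul_le_mul_left _ ih
        _ = 121 ^ (s + 1) := by ring

/-- `32 s^K ≤ 11^N` if `K ≤ 13 j`, `2 s j + 2 ≤ N` -/
theorem size {s K j N : ℕ} (hs : 1 ≤ s) (hK : K ≤ 13 * j) (hN : 2 * s * j + 2 ≤ N) : 32 * s ^ K ≤ 11 ^ N := by
  calc 32 * s ^ K ≤ 121 * s ^ (13 * j) := Nat.mul_le_mul (by norm_num) (Nat.pow_le_pow_right hs hK)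
    _ = 121 * (s ^ 13) ^ j := by rw [pow_mul]
    _ ≤ 121 * (121 ^ s) ^ j := Nat.mul_le_mul_left _ (Nat.pow_le_pow_left (pow13 s) j)
    _ = 11 ^ (2 * s * j + 2) := by
      rw [show (121 : ℕ) = 11 ^ 2 by norm_num, ← pow_mul, ← pow_mul, ← pow_add]
      congr 1
      ring
    _ ≤ 11 ^ N := Nat.pow_le_pow_right (by norm_num) hN

theorem grow {s : ℕ} (hs : 2 ≤ s) {m₀ : ℕ} (hm₀ : 4 ≤ m₀)
    (h0 : 2 * s * (4 * m₀ ^ 2 - 2 * m₀ + 14) + 65 ≤ 13 * s ^ (m₀ - 2)) {m : ℕ} (hm : m₀ ≤ m) :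
    2 * s * (4 * m ^ 2 - 2 * m + 14) + 65 ≤ 13 * s ^ (m - 2) := by
  induction m, hm using Nat.le_induction with
  | base => exact h0
  | succ m hm ih =>
    have e1 : m + 1 - 2 = (m - 2) + 1 := by omega
    rw [e1, pow_succ]
    have h2 : 4 * (m + 1) ^ 2 - 2 * (m + 1) + 14 ≤ 2 * (4 * m ^ 2 - 2 * m + 14) := by
      have : 4 ≤ m := hm₀.trans hm
      zify [show 2 * (m + 1) ≤ 4 * (m + 1) ^ 2 by nlinarith, show 2 * m ≤ 4 * m ^ 2 by nlinarith]
      nlinarith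
    calc 2 * s * (4 * (m + 1) ^ 2 - 2 * (m + 1) + 14) + 65 ≤ 2 * s * (2 * (4 * m ^ 2 - 2 * m + 14)) + 2 * 65 := by
          gcongr
          omega
      _ = 2 * (2 * s * (4 * m ^ 2 - 2 * m + 14) + 65) := by ring
      _ ≤ 2 * (13 * s ^ (m - 2)) := Nat.mul_le_mul_left _ ih
      _ ≤ s * (13 * s ^ (m - 2)) := Nat.mul_le_mul_right _ hs
      _ = 13 * (s ^ (m - 2) * s) := by ring

/-- the size condition, `b = 11` -/
theorem big {s m n : ℕ} (hs : 2 ≤ s) (hm : 4 ≤ m) (h1 : s ^ (m - 2) - 1 ≤ n) (h3 : s ^ 3 - 1 ≤ n)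
    (h : (4 ≤ s) ∨ (s = 3 ∧ 6 ≤ m) ∨ (s = 2 ∧ 9 ≤ m)) : 32 * s ^ (4 * m ^ 2 - 2 * m + 2) ≤ 11 ^ (n - 2) := by
  have key : ∀ m, (6 ≤ m ∧ 3 ≤ s) ∨ (9 ≤ m) → 2 * s * (4 * m ^ 2 - 2 * m + 14) + 65 ≤ 13 * s ^ (m - 2) := by
    intro m hm
    rcases Nat.lt_or_ge s 3 with h2 | h2
    · have hs2 : s = 2 := by omega
      subst hs2
      exact grow (m₀ := 9) le_rfl (by norm_num) (by norm_num) (by omega)
    · refine grow (m₀ := 6) hs (by norm_num) ?_ (by omega)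
      norm_num
      have h4 : 27 * s ≤ s ^ 4 := by
        calc 27 * s = 3 ^ 3 * s := by norm_num
          _ ≤ s ^ 3 * s := Nat.mul_le_mul_right _ (Nat.pow_le_pow_left h2 3)
          _ = s ^ 4 := by ring
      nlinarith
  rcases Nat.lt_or_ge m 6 with h6 | h6
  · have hs4 : 4 ≤ s := by omega
    have h4 : 16 * s ≤ s ^ 3 := by
      calc 16 * s = 4 ^ 2 * s := by norm_num
        _ ≤ s ^ 2 * s := Nat.mul_le_mul_right _ (Nat.pow_le_pow_left hs4 2)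
        _ = s ^ 3 := by ring
    interval_cases m
    · exact size (j := 5) (by omega) (by norm_num) (by omega)
    · rcases hs4.eq_or_lt with rfl | h5
      · have h7 : 63 ≤ n := by norm_num at h3; omega
        calc 32 * 4 ^ (4 * 5 ^ 2 - 2 * 5 + 2) ≤ 11 ^ 61 := by norm_num
          _ ≤ 11 ^ (n - 2) := Nat.pow_le_pow_right (by norm_num) (by omega)
      · have h5' : 25 * s ≤ s ^ 3 := by
          calc 25 * s = 5 ^ 2 * s := by norm_num
            _ ≤ s ^ 2 * s := Nat.mul_le_mul_right _ (Nat.pow_le_pow_left h5 2)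
            _ = s ^ 3 := by ring
        exact size (j := 8) (by omega) (by norm_num) (by omega)
  · have h7 := key m (by omega)
    refine size (j := (4 * m ^ 2 - 2 * m + 14) / 13) (by omega) (by omega) ?_
    have h8 : 13 * (2 * s * ((4 * m ^ 2 - 2 * m + 14) / 13)) ≤ 2 * s * (4 * m ^ 2 - 2 * m + 14) := by
      calc 13 * (2 * s * ((4 * m ^ 2 - 2 * m + 14) / 13)) = 2 * s * (13 * ((4 * m ^ 2 - 2 * m + 14) / 13)) := by ring
        _ ≤ _ := Nat.mul_le_mul_left _ (Nat.mul_div_le _ _)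
    omega

end Cfsg.Agent.H79.HT
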