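import Mathlib

/-!
# S3512, row PB6: arithmetic (helper79)
-/

set_option autoImplicit false

namespace Cfsg.Agent.H79.HT.P

/-- `s ^ 4 ≤ 4 ^ s` -/
theorem pow4 {s : ℕ} (h : 4 ≤ s) : s ^ 4 ≤ 4 ^ s := by
  induction s, h using Nat.le_induction with
  | base => norm_num
  | succ s hs ih =>
    have h1 : (s + 1) ^ 4 ≤ 4 * s ^ 4 := by
      have h2 : 4 * (s + 1) ≤ 5 * s := by omega
      have h3 : (4 * (s + 1)) ^ 4 ≤ (5 * s) ^ 4 := Nat.pow_le_pow_left h2 4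
      rw [mul_pow, mul_pow] at h3
      norm_num at h3
      omega
    calc (s + 1) ^ 4 ≤ 4 * s ^ 4 := h1
      _ ≤ 4 * 4 ^ s := Nat.mul_le_mul_left _ ih
      _ = 4 ^ (s + 1) := by ring

/-- growth in `m` -/
theorem grow {s b c m₀ : ℕ} (hs : 2 ≤ s) (hm₀ : 4 ≤ m₀) (hsb : s ≤ b ^ c) (hb : 1 ≤ b)
    (h0 : 128 * s ^ (4 * m₀ ^ 2 - 2 * m₀ + 2) ≤ b ^ (s ^ (m₀ - 2) - 3))
    (h1 : c * (8 * m₀ + 2) ≤ (s - 1) * s ^ (m₀ - 2)) {m : ℕ} (hm : m₀ ≤ m) :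
    128 * s ^ (4 * m ^ 2 - 2 * m + 2) ≤ b ^ (s ^ (m - 2) - 3) := by
  have key : 128 * s ^ (4 * m ^ 2 - 2 * m + 2) ≤ b ^ (s ^ (m - 2) - 3) ∧ c * (8 * m + 2) ≤ (s - 1) * s ^ (m - 2) := by
    induction m, hm using Nat.le_induction with
    | base => exact ⟨h0, h1⟩
    | succ m hm ih =>
      obtain ⟨ih1, ih2⟩ := ih
      have hm4 : 4 ≤ m := hm₀.trans hm
      have e1 : m + 1 - 2 = (m - 2) + 1 := by omega
      have e2 : 4 * (m + 1) ^ 2 - 2 * (m + 1) + 2 = (4 * m ^ 2 - 2 * m + 2) + (8 * m + 2) := by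
        zify [show 2 * (m + 1) ≤ 4 * (m + 1) ^ 2 by nlinarith, show 2 * m ≤ 4 * m ^ 2 by nlinarith]
        ring
      have hpow : 3 ≤ s ^ (m - 2) := by
        calc 3 ≤ 2 ^ 2 := by norm_num
          _ ≤ s ^ 2 := Nat.pow_le_pow_left hs 2
          _ ≤ s ^ (m - 2) := Nat.pow_le_pow_right (by omega) (by omega)
      rw [e1, e2]
      constructor
      · have e3 : s ^ (m - 2 + 1) - 3 = (s ^ (m - 2) - 3) + (s - 1) * s ^ (m - 2) := by
          rw [pow_succ]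
          obtain ⟨t, rfl⟩ : ∃ t, s = t + 1 := ⟨s - 1, by omega⟩
          rw [Nat.add_sub_cancel]
          have : (t + 1) ^ (m - 2) * (t + 1) = t * (t + 1) ^ (m - 2) + (t + 1) ^ (m - 2) := by ring
          omega
        rw [e3, pow_add b, pow_add s (4 * m ^ 2 - 2 * m + 2)]
        calc 128 * (s ^ (4 * m ^ 2 - 2 * m + 2) * s ^ (8 * m + 2))
            = (128 * s ^ (4 * m ^ 2 - 2 * m + 2)) * s ^ (8 * m + 2) := by ring
          _ ≤ b ^ (s ^ (m - 2) - 3) * b ^ ((s - 1) * s ^ (m - 2)) := by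
            refine Nat.mul_le_mul ih1 ?_
            calc s ^ (8 * m + 2) ≤ (b ^ c) ^ (8 * m + 2) := Nat.pow_le_pow_left hsb _
              _ = b ^ (c * (8 * m + 2)) := by rw [← pow_mul]
              _ ≤ _ := Nat.pow_le_pow_right hb ih2
      · rw [pow_succ]
        calc c * (8 * (m + 1) + 2) ≤ c * (2 * (8 * m + 2)) := Nat.mul_le_mul_left _ (by omega)
          _ = 2 * (c * (8 * m + 2)) := by ring
          _ ≤ 2 * ((s - 1) * s ^ (m - 2)) := Nat.mul_le_mul_left _ ih2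
          _ ≤ s * ((s - 1) * s ^ (m - 2)) := Nat.mul_le_mul_right _ hs
          _ = _ := by ring
  exact key.1

/-- the size condition -/
theorem big {s m n b : ℕ} (hs : 2 ≤ s) (hm : 4 ≤ m) (hb : 2 ≤ b) (hb3 : Even s → 3 ≤ b)
    (h1 : s ^ (m - 2) - 1 ≤ n) (h3 : s ^ 3 - 1 ≤ n)
    (h : 7 ≤ s ∨ (s = 5 ∧ 6 ≤ m) ∨ (s = 4 ∧ 6 ≤ m) ∨ (s = 3 ∧ 8 ≤ m) ∨ (s = 2 ∧ 10 ≤ m)) :
    128 * s ^ (4 * m ^ 2 - 2 * m + 2) ≤ b ^ (n - 2) := by
  have hup : s ^ (m - 2) - 3 ≤ n - 2 := by omega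
  rcases h with h7 | ⟨rfl, h6⟩ | ⟨rfl, h6⟩ | ⟨rfl, h6⟩ | ⟨rfl, h6⟩
  · have h5 : 128 * s ^ 92 ≤ 2 ^ (s ^ 3 - 3) := by
      have e1 : 46 * s + 10 ≤ s ^ 3 := by
        have : 49 * s ≤ s ^ 3 := by
          calc 49 * s = 7 ^ 2 * s := by norm_num
            _ ≤ s ^ 2 * s := Nat.mul_le_mul_right _ (Nat.pow_le_pow_left h7 2)
            _ = s ^ 3 := by ring
        omega
      calc 128 * s ^ 92 = 2 ^ 7 * (s ^ 4) ^ 23 := by rw [← pow_mul]; norm_num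
        _ ≤ 2 ^ 7 * (4 ^ s) ^ 23 := Nat.mul_le_mul_left _ (Nat.pow_le_pow_left (pow4 (by omega)) 23)
        _ = 2 ^ (46 * s + 7) := by
          rw [show (4 : ℕ) = 2 ^ 2 by norm_num, ← pow_mul, ← pow_mul, ← pow_add]
          congr 1
          ring
        _ ≤ _ := Nat.pow_le_pow_right (by norm_num) (by omega)
    rcases hm.eq_or_lt with rfl | hm5
    · calc 128 * s ^ (4 * 4 ^ 2 - 2 * 4 + 2) ≤ 128 * s ^ 92 :=
          Nat.mul_le_mul_left _ (Nat.pow_le_pow_right (by omega) (by norm_num))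
        _ ≤ 2 ^ (s ^ 3 - 3) := h5
        _ ≤ 2 ^ (n - 2) := Nat.pow_le_pow_right (by norm_num) (by omega)
        _ ≤ b ^ (n - 2) := Nat.pow_le_pow_left hb _
    · calc 128 * s ^ (4 * m ^ 2 - 2 * m + 2) ≤ 2 ^ (s ^ (m - 2) - 3) := by
            refine grow (m₀ := 5) (c := s) hs (by norm_num) Nat.lt_two_pow_self.le (by norm_num) h5 ?_ hm5
            norm_num
            have h8 : 49 * s ≤ s ^ 3 := by
              calc 49 * s = 7 ^ 2 * s := by norm_num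
                _ ≤ s ^ 2 * s := Nat.mul_le_mul_right _ (Nat.pow_le_pow_left h7 2)
                _ = s ^ 3 := by ring
            calc s * 42 ≤ 6 * (49 * s) := by omega
              _ ≤ (s - 1) * s ^ 3 := Nat.mul_le_mul (by omega) h8
        _ ≤ 2 ^ (n - 2) := Nat.pow_le_pow_right (by norm_num) (by omega)
        _ ≤ b ^ (n - 2) := Nat.pow_le_pow_left hb _
  · calc 128 * 5 ^ (4 * m ^ 2 - 2 * m + 2) ≤ 2 ^ (5 ^ (m - 2) - 3) :=
          grow (m₀ := 6) (c := 3) (by norm_num) (by norm_num) (by norm_num) (by norm_num) (by decide +kernel) (by norm_num) h6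
      _ ≤ 2 ^ (n - 2) := Nat.pow_le_pow_right (by norm_num) hup
      _ ≤ b ^ (n - 2) := Nat.pow_le_pow_left hb _
  · have hb' := hb3 (by decide)
    calc 128 * 4 ^ (4 * m ^ 2 - 2 * m + 2) ≤ 3 ^ (4 ^ (m - 2) - 3) :=
          grow (m₀ := 6) (c := 2) (by norm_num) (by norm_num) (by norm_num) (by norm_num) (by decide +kernel) (by norm_num) h6
      _ ≤ 3 ^ (n - 2) := Nat.pow_le_pow_right (by norm_num) hup
      _ ≤ b ^ (n - 2) := Nat.pow_le_pow_left hb' _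
  · calc 128 * 3 ^ (4 * m ^ 2 - 2 * m + 2) ≤ 2 ^ (3 ^ (m - 2) - 3) :=
          grow (m₀ := 8) (c := 2) (by norm_num) (by norm_num) (by norm_num) (by norm_num) (by decide +kernel) (by norm_num) h6
      _ ≤ 2 ^ (n - 2) := Nat.pow_le_pow_right (by norm_num) hup
      _ ≤ b ^ (n - 2) := Nat.pow_le_pow_left hb _
  · have hb' := hb3 (by decide)
    calc 128 * 2 ^ (4 * m ^ 2 - 2 * m + 2) ≤ 3 ^ (2 ^ (m - 2) - 3) :=
          grow (m₀ := 10) (c := 1) (by norm_num) (by norm_num) (by norm_num) (by norm_num) (by decide +kernel) (by norm_num) h6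
      _ ≤ 3 ^ (n - 2) := Nat.pow_le_pow_right (by norm_num) hup
      _ ≤ b ^ (n - 2) := Nat.pow_le_pow_left hb' _

end Cfsg.Agent.H79.HT.P
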